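import Mathlib
import Groth.Prelude
import Groth.Agent.Lib.Helper8.Synt.Local3
import Groth.Agent.Lib.Helper8.Kos.Pres
import Groth.Agent.Lib.Helper8.KosDesc.Main

set_option autoImplicit false
set_option linter.style.haveILetI false

universe u

open TensorProduct Algebra CategoryTheory AlgebraicGeometry

attribute [local instance] HasDerivedCategory.standard

namespace Groth.Agent.H8.SyntDesc

open Groth.Agent.H8.Synt Groth.Agent.H8.SyntLocal

section ring

variable (R T S : Type u) [CommRing R] [CommRing T] [CommRing S] [Algebra R T] [Algebra R S]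

attribute [local instance] Algebra.TensorProduct.rightAlgebra in
/-- faithfully flat descent of local complete intersection ring maps. -/
theorem isLCI_of_faithfullyFlat [Module.FaithfullyFlat R T] (h : LCI.IsLCI T (T ⊗[R] S)) :
    LCI.IsLCI R S := by
  obtain ⟨hft, m, α, hα, hKR⟩ := h
  have hftS : Algebra.FiniteType R S := .of_finiteType_tensorProduct_of_faithfullyFlat T
  refine ⟨hftS, ?_⟩
  obtain ⟨n, f, hf⟩ := (Algebra.FiniteType.iff_quotient_mvPolynomial'').mp hftS
  refine ⟨n, f, hf, ?_⟩
  haveI : Module.FaithfullyFlat (MvPolynomial (Fin n) R) (T ⊗[R] MvPolynomial (Fin n) R) :=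
    .of_linearEquiv _ _ (Algebra.TensorProduct.commRight _ _ _).symm.toLinearEquiv
  let fT : T ⊗[R] MvPolynomial (Fin n) R →ₐ[T] T ⊗[R] S := Algebra.TensorProduct.map (.id T T) f
  have hfT : Function.Surjective fT := Algebra.TensorProduct.map_surjective _ _
    (fun x => ⟨x, rfl⟩) hf
  have hker : (RingHom.ker f.toRingHom).map
      (algebraMap (MvPolynomial (Fin n) R) (T ⊗[R] MvPolynomial (Fin n) R)) = RingHom.ker fT :=
    (Algebra.TensorProduct.lTensor_ker f hf).symm
  apply Groth.Agent.H8.KosDesc.isKoszulRegularIdeal_of_faithfullyFlat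
    (B := T ⊗[R] MvPolynomial (Fin n) R)
  rw [hker]
  -- transport to `MvPolynomial (Fin n) T`
  let e : T ⊗[R] MvPolynomial (Fin n) R ≃ₐ[T] MvPolynomial (Fin n) T :=
    MvPolynomial.algebraTensorAlgEquiv R T
  let β : MvPolynomial (Fin n) T →ₐ[T] T ⊗[R] S := fT.comp e.symm.toAlgHom
  have hβ : Function.Surjective β := hfT.comp e.symm.surjective
  have hKRβ : LCI.IsKoszulRegularIdeal (RingHom.ker β.toRingHom) :=
    Groth.Agent.H8.KosIndep.main9269 T (T ⊗[R] S) m n α hα β hβ hKR
  have hkerβ : RingHom.ker fT = (RingHom.ker β.toRingHom).map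
      (e.symm.toRingEquiv : MvPolynomial (Fin n) T →+* T ⊗[R] MvPolynomial (Fin n) R) := by
    ext x
    rw [Ideal.mem_map_iff_of_surjective
      (e.symm.toRingEquiv : MvPolynomial (Fin n) T →+* T ⊗[R] MvPolynomial (Fin n) R)
      e.symm.surjective]
    constructor
    · intro hx
      refine ⟨e x, ?_, e.symm_apply_apply x⟩
      change fT (e.symm (e x)) = 0
      rw [e.symm_apply_apply]
      exact hx
    · rintro ⟨y, hy, rfl⟩
      exact hy
  rw [hkerβ]
  exact Groth.Agent.H8.KosIndep.isKoszulRegularIdeal_map_ringEquiv e.symm.toRingEquiv _ hKRβ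

end ring

section codescent

attribute [local instance] Algebra.TensorProduct.rightAlgebra in
/-- syntomic ring maps codescend along faithfully flat ring maps. -/
theorem codescendsAlong_faithfullyFlat :
    RingHom.CodescendsAlong @IsSyntomicHom RingHom.FaithfullyFlat := by
  refine .mk _ IsSyntomicHom.respectsIso fun R S T _ _ _ _ _ h h' => ?_
  rw [isSyntomicHom_algebraMap_iff] at h' ⊢
  rw [RingHom.faithfullyFlat_algebraMap_iff] at h
  rw [isSyntomic_iff] at h' ⊢
  obtain ⟨hflat, hlci⟩ := h'
  exact ⟨Module.Flat.of_flat_tensorProduct R T S, isLCI_of_faithfullyFlat R S T hlci⟩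

instance : MorphismProperty.DescendsAlong SyntomicP.{u} (@Surjective ⊓ @Flat ⊓ @QuasiCompact) :=
  HasRingHomProperty.descendsAlong_flat codescendsAlong_faithfullyFlat

/-- **fpqc descent of syntomic morphisms** -/
theorem isSyntomicMor_of_pullback_snd {X Y Y' : Scheme.{u}} (f : X ⟶ Y) (g : Y' ⟶ Y)
    [Flat g] [Surjective g] [QuasiCompact g]
    (h : Synt.IsSyntomicMor (Limits.pullback.snd f g)) : Synt.IsSyntomicMor f := by
  rw [isSyntomicMor_iff] at h ⊢
  exact MorphismProperty.of_pullback_snd_of_descendsAlong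
    (Q := @Surjective ⊓ @Flat ⊓ @QuasiCompact) ⟨⟨inferInstance, inferInstance⟩, inferInstance⟩ h

end codescent

end Groth.Agent.H8.SyntDesc
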